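import Groth.Agent.LC.ExtDim
import Groth.Agent.Triage.CMMor
import Groth.Agent.S2089
import Mathlib.RingTheory.Ideal.AssociatedPrime.Basic

/-!
# Cutting a Cohen–Macaulay local ring by a nonzerodivisor
-/

set_option autoImplicit false
set_option maxHeartbeats 800000

universe u

open IsLocalRing

namespace Groth.Agent.GrpdSlice

variable {R : Type u} [CommRing R]

/-- A Cohen–Macaulay local ring modulo a nonzerodivisor of the maximal ideal. -/
theorem isCM_quot_span [hR : LocCoh.IsCohenMacaulayLocalRing R] (x : R) (hx : x ∈ maximalIdeal R)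
    (hreg : x ∈ nonZeroDivisors R) :
    LocCoh.IsCohenMacaulayLocalRing (R ⧸ Ideal.span {x}) ∧
      ringKrullDim (R ⧸ Ideal.span {x}) + 1 = ringKrullDim R := by
  have hsm : IsSMulRegular R x := Module.Flat.isSMulRegular_of_nonZeroDivisors hreg
  refine ⟨?_, ringKrullDim_quotient_span_singleton_succ_eq_ringKrullDim hsm hx⟩
  have hw : RingTheory.Sequence.IsWeaklyRegular R [x] :=
    RingTheory.Sequence.IsWeaklyRegular.cons hsm (RingTheory.Sequence.IsWeaklyRegular.nil _ _)
  have h1 := LC.isCM_quot_ofList R hR.supportDim_eq_depth hw (by simpa using hx)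
  unfold LocCoh.IsCohenMacaulayModule at h1
  have hne : Ideal.span {x} ≠ ⊤ := fun h => (maximalIdeal.isMaximal R).ne_top
    (top_le_iff.1 (h ▸ (Ideal.span_singleton_le_iff_mem _).2 hx))
  haveI : Nontrivial (R ⧸ Ideal.span {x}) := Ideal.Quotient.nontrivial_iff.2 hne
  haveI : IsLocalRing (R ⧸ Ideal.span {x}) :=
    IsLocalRing.of_surjective' (Ideal.Quotient.mk _) Ideal.Quotient.mk_surjective
  have e : (Ideal.ofList [x] • ⊤ : Submodule R R) = Ideal.span {x} := by
    rw [Ideal.smul_eq_mul, Ideal.mul_top, Ideal.ofList_singleton]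
  rw [Module.supportDim_eq_of_equiv (Submodule.quotEquivOfEq _ _ e),
    Hensel.depth_congr (Submodule.quotEquivOfEq _ _ e)] at h1
  refine { supportDim_eq_depth := ?_ }
  rw [Module.supportDim_self_eq_ringKrullDim, ← Alg6.depth_eq_of_semilinear (Ideal.Quotient.mk (Ideal.span {x}))
    Ideal.Quotient.mk_surjective (AddEquiv.refl (R ⧸ Ideal.span {x})) fun r y => rfl, ← h1,
    Module.supportDim_quotient_eq_ringKrullDim]

/-- Prime avoidance: an ideal whose image has positive codimension in a Cohen–Macaulay local ring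
contains an element mapping to a nonzerodivisor. -/
theorem exists_mem_nonZeroDivisors [hR : LocCoh.IsCohenMacaulayLocalRing R] {A : Type u} [CommRing A]
    (φ : A →+* R) (M : Ideal A) (hdim : ringKrullDim (R ⧸ M.map φ) < ringKrullDim R) :
    ∃ a ∈ M, φ a ∈ nonZeroDivisors R := by
  by_contra hne
  push Not at hne
  have hfin := associatedPrimes.finite R R
  have hsub : (M : Set A) ⊆ ⋃ P ∈ (hfin.toFinset : Set (Ideal R)), (P.comap φ : Set A) := by
    intro a ha
    have h1 : φ a ∈ ((nonZeroDivisors R : Set R))ᶜ := hne a ha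
    rw [← biUnion_associatedPrimes_eq_compl_nonZeroDivisors] at h1
    obtain ⟨P, hP, haP⟩ := Set.mem_iUnion₂.1 h1
    exact Set.mem_iUnion₂.2 ⟨P, hfin.mem_toFinset.2 hP, haP⟩
  obtain ⟨P, hP, hMP⟩ := (Ideal.subset_union_prime ⊥ ⊥ fun P hP _ _ => by
    haveI := (hfin.mem_toFinset.1 hP).isPrime
    exact Ideal.IsPrime.comap φ).1 hsub
  have hle : M.map φ ≤ P := Ideal.map_le_iff_le_comap.2 hMP
  have h2 := S2089.result P (hfin.mem_toFinset.1 hP)
  rw [← hR.supportDim_eq_depth, Module.supportDim_self_eq_ringKrullDim] at h2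
  exact absurd (h2.trans (ringKrullDim_le_of_surjective (Ideal.Quotient.factor hle)
    (Ideal.Quotient.factor_surjective hle))) (not_le.2 hdim)

end Groth.Agent.GrpdSlice
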