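import Groth.Agent.GrpdLib.Pullback
import Groth.Agent.GrpdLib.FieldDim
import Groth.Agent.FtPts6.Basic

/-!
# The groupoid restricted to a point of finite type
-/

set_option autoImplicit false
set_option backward.isDefEq.respectTransparency false
set_option backward.isDefEq.respectTransparency.types false
set_option maxHeartbeats 800000

universe u

open CategoryTheory CategoryTheory.Limits AlgebraicGeometry Topology Grpd Groth.Agent.AlgSpPts

namespace Groth.Agent.GrpdSlice

variable {S : Scheme.{u}} (G : GroupoidScheme S) (v : G.U)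

/-- The groupoid restricted to the spectrum of the residue field of a point. -/
noncomputable abbrev ptGrpd : GroupoidScheme S := GrpdLib.pullBackGrpd G (G.U.fromSpecResidueField v)

/-- Its arrows as arrows of `G`. -/
noncomputable abbrev ptMid : (ptGrpd G v).R ⟶ G.R := GrpdLib.pbMid G (G.U.fromSpecResidueField v)

theorem topologicalKrullDim_le_of_injective {X Y : Scheme.{u}} (f : X ⟶ Y) (hf : Function.Injective f) :
    topologicalKrullDim ↥X ≤ topologicalKrullDim ↥Y := by
  letI := specializationOrder ↥X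
  letI := specializationOrder ↥Y
  rw [topologicalKrullDim_eq_krullDim, topologicalKrullDim_eq_krullDim]
  exact Order.krullDim_le_of_strictMono _ (AlgSpDec.GpdStabDim.strictMono_of_injective f hf)

theorem localDim_le_of_injective {X Y : Scheme.{u}} (f : X ⟶ Y) (hf : Function.Injective f) (x : X) :
    FlatMor.localDim ↥X x ≤ FlatMor.localDim ↥Y (f x) := by
  refine le_iInf fun V => ?_
  refine iInf_le_of_le ⟨f ⁻¹ᵁ (V.1 : Y.Opens), V.2⟩ ?_
  refine topologicalKrullDim_le_of_injective (X := ((f ⁻¹ᵁ (V.1 : Y.Opens)) : Scheme.{u}))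
    (Y := ((V.1 : Y.Opens) : Scheme.{u})) (f ∣_ (V.1 : Y.Opens)) fun a b hab => ?_
  apply (f ⁻¹ᵁ (V.1 : Y.Opens)).ι.isOpenEmbedding.injective
  apply hf
  rw [← Scheme.Hom.comp_apply, ← Scheme.Hom.comp_apply, ← morphismRestrict_ι]
  simp only [Scheme.Hom.comp_apply, hab]

/-- The unique point of the objects. -/
theorem closedPoint_apply (k : Type u) [Field k] (x : Spec (CommRingCat.of k)) :
    x = IsLocalRing.closedPoint k := Subsingleton.elim (α := PrimeSpectrum k) _ _

instance (w : G.U) : Subsingleton ↥(Spec (G.U.residueField w)) :=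
  inferInstanceAs (Subsingleton (PrimeSpectrum (G.U.residueField w)))

theorem ptMid_t (r : (ptGrpd G v).R) : G.t (ptMid G v r) = v := by
  rw [← Scheme.Hom.comp_apply, GrpdLib.pbMid_t, Scheme.Hom.comp_apply, Scheme.fromSpecResidueField_apply]

theorem ptMid_s (r : (ptGrpd G v).R) : G.s (ptMid G v r) = v := by
  rw [← Scheme.Hom.comp_apply, GrpdLib.pbMid_s, Scheme.Hom.comp_apply, Scheme.fromSpecResidueField_apply]

theorem exists_ptMid_eq (r : G.R) (ht : G.t r = v) (hs : G.s r = v) :
    ∃ w : (ptGrpd G v).R, ptMid G v w = r := by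
  let k := G.U.fromSpecResidueField v
  obtain ⟨w₁, hw₁, -⟩ := Scheme.Pullback.exists_preimage_pullback (f := G.t) (g := k) r (IsLocalRing.closedPoint _)
    (by rw [ht, Scheme.fromSpecResidueField_apply])
  obtain ⟨w, hw, -⟩ := Scheme.Pullback.exists_preimage_pullback (f := GrpdLib.srcMap G k) (g := k) w₁
    (IsLocalRing.closedPoint _)
    (by rw [GrpdLib.srcMap, Scheme.Hom.comp_apply, hw₁, hs, Scheme.fromSpecResidueField_apply])
  refine ⟨w, ?_⟩
  show (pullback.fst (GrpdLib.srcMap G k) k ≫ pullback.fst G.t k) w = r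
  rw [Scheme.Hom.comp_apply, hw, hw₁]

theorem isEmbedding_ptMid : IsEmbedding (ptMid G v) := by
  haveI : IsPreimmersion (ptMid G v) :=
    inferInstanceAs (IsPreimmersion (pullback.fst (GrpdLib.srcMap G _) _ ≫ pullback.fst G.t _))
  exact (ptMid G v).isEmbedding

theorem lft_ptGrpd_s [LocallyOfFiniteType G.s] (hv : LocallyOfFiniteType (G.U.fromSpecResidueField v)) :
    LocallyOfFiniteType (ptGrpd G v).s := by
  let k := G.U.fromSpecResidueField v
  haveI : LocallyOfFiniteType k := hv
  haveI : LocallyOfFiniteType (pullback.fst G.t k) := MorphismProperty.pullback_fst _ _ hv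
  haveI : LocallyOfFiniteType (GrpdLib.srcMap G k) :=
    inferInstanceAs (LocallyOfFiniteType (pullback.fst G.t k ≫ G.s))
  show LocallyOfFiniteType (pullback.snd (GrpdLib.srcMap G k) k)
  exact MorphismProperty.pullback_snd _ _ inferInstance

theorem topologicalKrullDim_ptGrpd [LocallyOfFiniteType G.s] (hv : LocallyOfFiniteType (G.U.fromSpecResidueField v)) :
    topologicalKrullDim ↥(ptGrpd G v).R = topologicalKrullDim ↥(G.stabilizerToU.fiber v) := by
  let k := G.U.fromSpecResidueField v
  haveI := lft_ptGrpd_s G v hv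
  haveI := GrpdLib.FieldDim.mono_diag G
  haveI := GrpdLib.FieldDim.mono_diag (ptGrpd G v)
  rw [GrpdLib.FieldDim.dim_stabilizer (ptGrpd G v) (k := G.U.residueField v) (Iso.refl (Spec (G.U.residueField v)))]
  refine le_antisymm ?_ ?_
  · obtain ⟨l, hl, hl'⟩ := GrpdLib.exists_stab_lift G (GrpdLib.stabι (ptGrpd G v) ≫ ptMid G v) (by
      rw [Category.assoc, Category.assoc, GrpdLib.pbMid_t, GrpdLib.pbMid_s, ← Category.assoc, ← Category.assoc]
      exact congrArg (· ≫ k) ((GrpdLib.stabι_t (ptGrpd G v)).trans (GrpdLib.stabι_s (ptGrpd G v)).symm))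
    have hc : l ≫ G.stabilizerToU = (ptGrpd G v).stabilizerToU ≫ k := by
      rw [hl', Category.assoc, GrpdLib.pbMid_t, ← Category.assoc]
      exact congrArg (· ≫ k) (GrpdLib.stabι_t (ptGrpd G v))
    let L : (ptGrpd G v).stabilizer ⟶ G.stabilizerToU.fiber v := pullback.lift l (ptGrpd G v).stabilizerToU hc
    refine topologicalKrullDim_le_of_injective L fun a b hab => ?_
    haveI : Mono (GrpdLib.stabι (ptGrpd G v)) := inferInstanceAs (Mono (pullback.fst _ _))
    refine (GrpdLib.stabι (ptGrpd G v)).injective ((isEmbedding_ptMid G v).injective ?_)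
    have hL : L ≫ G.stabilizerToU.fiberι v ≫ GrpdLib.stabι G = GrpdLib.stabι (ptGrpd G v) ≫ ptMid G v := by
      rw [← Category.assoc, ← hl]
      exact congrArg (· ≫ GrpdLib.stabι G) (pullback.lift_fst _ _ _)
    have := congrArg (G.stabilizerToU.fiberι v ≫ GrpdLib.stabι G : _ ⟶ G.R) hab
    simp only [← Scheme.Hom.comp_apply, hL] at this
    exact this
  · let x : G.stabilizerToU.fiber v ⟶ G.R := G.stabilizerToU.fiberι v ≫ GrpdLib.stabι G
    let q : G.stabilizerToU.fiber v ⟶ Spec (G.U.residueField v) := G.stabilizerToU.fiberToSpecResidueField v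
    have hsq : G.stabilizerToU.fiberι v ≫ G.stabilizerToU = q ≫ k := pullback.condition
    have ht : x ≫ G.t = q ≫ k := by rw [Category.assoc, GrpdLib.stabι_t, hsq]
    have hs : x ≫ G.s = q ≫ k := by rw [Category.assoc, GrpdLib.stabι_s, hsq]
    let M : G.stabilizerToU.fiber v ⟶ (ptGrpd G v).R := GrpdLib.pbMk G k x q q ht hs
    obtain ⟨L, hL, -⟩ := GrpdLib.exists_stab_lift (ptGrpd G v) M
      ((GrpdLib.pbMk_t G k x q q ht hs).trans (GrpdLib.pbMk_s G k x q q ht hs).symm)
    refine topologicalKrullDim_le_of_injective L fun a b hab => ?_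
    have hM : L ≫ GrpdLib.stabι (ptGrpd G v) ≫ ptMid G v = x := by
      rw [← Category.assoc, hL]; exact GrpdLib.pbMk_mid G k x q q ht hs
    have h2 := congrArg (GrpdLib.stabι (ptGrpd G v) ≫ ptMid G v : _ ⟶ G.R) hab
    simp only [← Scheme.Hom.comp_apply, hM] at h2
    haveI : Mono (GrpdLib.stabι G) := inferInstanceAs (Mono (pullback.fst _ _))
    rw [show x = G.stabilizerToU.fiberι v ≫ GrpdLib.stabι G from rfl, Scheme.Hom.comp_apply,
      Scheme.Hom.comp_apply] at h2
    exact (G.stabilizerToU.fiberι v).isEmbedding.injective ((GrpdLib.stabι G).injective h2)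

theorem localDim_ptGrpd [LocallyOfFiniteType G.s] (hv : LocallyOfFiniteType (G.U.fromSpecResidueField v))
    (w : (ptGrpd G v).R) : FlatMor.localDim ↥(ptGrpd G v).R w = topologicalKrullDim ↥(ptGrpd G v).R := by
  haveI := lft_ptGrpd_s G v hv
  exact GrpdLib.FieldDim.equidim (ptGrpd G v) (k := G.U.residueField v) (Iso.refl (Spec (G.U.residueField v))) w

end Groth.Agent.GrpdSlice
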