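import Groth.Agent.GrpdSlice.Base
import Groth.Agent.CMOpen5.Open

/-!
# Fibres of the source map restricted along an immersion into the objects
-/

set_option autoImplicit false
set_option backward.isDefEq.respectTransparency false
set_option backward.isDefEq.respectTransparency.types false
set_option maxHeartbeats 800000

universe u

open CategoryTheory CategoryTheory.Limits AlgebraicGeometry Topology Grpd IsLocalRing

namespace Groth.Agent.GrpdSlice

theorem exists_point_factor {X Y : Scheme.{u}} (g : X ⟶ Y) [IsImmersion g] (x : X) (y : Y) (hy : g x = y) :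
    ∃ σ : Spec (Y.residueField y) ⟶ X, σ ≫ g = Y.fromSpecResidueField y := by
  subst hy
  haveI : IsIso (g.residueFieldMap x) := by
    refine (ConcreteCategory.isIso_iff_bijective _).2 ⟨RingHom.injective _, fun z => ?_⟩
    obtain ⟨a, rfl⟩ := X.residue_surjective x z
    obtain ⟨b, rfl⟩ := g.stalkMap_surjective x a
    exact ⟨Y.residue (g x) b, rfl⟩
  refine ⟨Spec.map (inv (g.residueFieldMap x)) ≫ X.fromSpecResidueField x, ?_⟩
  rw [Category.assoc, ← Scheme.Hom.SpecMap_residueFieldMap_fromSpecResidueField, ← Category.assoc,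
    ← Spec.map_comp, IsIso.hom_inv_id, Spec.map_id, Category.id_comp]

variable {S : Scheme.{u}} (G : GroupoidScheme S) {U' : Scheme.{u}} (g : U' ⟶ G.U) [IsImmersion g]

/-- The source map of the arrows with target in `U'`. -/
noncomputable abbrev hmap : pullback g G.t ⟶ G.U := pullback.snd g G.t ≫ G.s

theorem exists_ptLift (v : G.U) (u' : U') (hu' : g u' = v) :
    ∃ ℓ : (ptGrpd G v).R ⟶ pullback g G.t, ℓ ≫ pullback.snd g G.t = ptMid G v ∧
      ℓ ≫ hmap G g = GrpdLib.pbS G (G.U.fromSpecResidueField v) ≫ G.U.fromSpecResidueField v := by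
  obtain ⟨σ, hσ⟩ := exists_point_factor g u' v hu'
  refine ⟨pullback.lift (GrpdLib.pbT G _ ≫ σ) (ptMid G v) (by rw [Category.assoc, hσ, GrpdLib.pbMid_t]),
    pullback.lift_snd _ _ _, ?_⟩
  rw [pullback.lift_snd_assoc]
  exact GrpdLib.pbMid_s G _

/-- The fibre of the restricted source map contains the restricted groupoid. -/
theorem exists_ptFiber (v : G.U) (u' : U') (hu' : g u' = v) :
    ∃ L : (ptGrpd G v).R ⟶ (hmap G g).fiber v,
      L ≫ (hmap G g).fiberι v ≫ pullback.snd g G.t = ptMid G v ∧
      L ≫ (hmap G g).fiberToSpecResidueField v = GrpdLib.pbS G (G.U.fromSpecResidueField v) := by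
  obtain ⟨ℓ, h1, h2⟩ := exists_ptLift G g v u' hu'
  refine ⟨pullback.lift ℓ (GrpdLib.pbS G _) h2, ?_, pullback.lift_snd _ _ _⟩
  rw [← Category.assoc]
  erw [pullback.lift_fst]
  exact h1

theorem snd_injective : Function.Injective (pullback.snd g G.t) :=
  (pullback.snd g G.t).isEmbedding.injective

variable (p : ↥(pullback g G.t)) (v : G.U) (hgp : g (pullback.fst g G.t p) = v)

theorem t_snd : G.t (pullback.snd g G.t p) = g (pullback.fst g G.t p) := by
  rw [← Scheme.Hom.comp_apply, ← Scheme.Hom.comp_apply, pullback.condition]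

include hgp

theorem fibreDimAt_ge [LocallyOfFiniteType G.s] (hv : LocallyOfFiniteType (G.U.fromSpecResidueField v))
    (hsp : hmap G g p = v) :
    topologicalKrullDim ↥(ptGrpd G v).R ≤ FlatMor.fibreDimAt (hmap G g) p := by
  obtain ⟨w, hw⟩ := exists_ptMid_eq G v (pullback.snd g G.t p) (by rw [t_snd, hgp]) hsp
  subst hsp
  obtain ⟨L, hL, -⟩ := exists_ptFiber G g _ _ hgp
  rw [← localDim_ptGrpd G _ hv w]
  have hinj : Function.Injective L := fun a b hab => (isEmbedding_ptMid G _).injective (by
    rw [← hL]; simp only [Scheme.Hom.comp_apply, hab])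
  have hLw : L w = (hmap G g).asFiber p := by
    refine ((hmap G g).fiberι _).isEmbedding.injective (snd_injective G g ?_)
    rw [Scheme.Hom.fiberι_asFiber, ← hw, ← hL]
    simp only [Scheme.Hom.comp_apply]
  have := localDim_le_of_injective L hinj w
  rwa [hLw] at this

theorem isClosed_asFiber [LocallyOfFiniteType G.s] [LocallyOfFiniteType g] (hep : pullback.snd g G.t p = G.e v) :
    IsClosed ({(hmap G g).asFiber p} : Set ↥((hmap G g).fiber (hmap G g p))) := by
  have hsp : hmap G g p = v := by
    show (pullback.snd g G.t ≫ G.s) p = v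
    rw [Scheme.Hom.comp_apply, hep, ← Scheme.Hom.comp_apply, G.e_s]
    rfl
  subst hsp
  obtain ⟨L, hL, hL'⟩ := exists_ptFiber G g _ _ hgp
  haveI : LocallyOfFiniteType (pullback.snd g G.t) := MorphismProperty.pullback_snd _ _ ‹LocallyOfFiniteType g›
  haveI : LocallyOfFiniteType (hmap G g) := inferInstanceAs (LocallyOfFiniteType (pullback.snd g G.t ≫ G.s))
  let F := (hmap G g).fiber (hmap G g p)
  haveI : LocallyOfFiniteType ((hmap G g).fiberToSpecResidueField (hmap G g p)) :=
    MorphismProperty.pullback_snd (P := @LocallyOfFiniteType) _ _ ‹_›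
  haveI : JacobsonSpace ↥F := LocallyOfFiniteType.jacobsonSpace ((hmap G g).fiberToSpecResidueField (hmap G g p))
  let τ : Spec (G.U.residueField (hmap G g p)) ⟶ F :=
    GrpdLib.pbE G (G.U.fromSpecResidueField (hmap G g p)) ≫ L
  haveI : IsImmersion (τ ≫ (hmap G g).fiberToSpecResidueField (hmap G g p)) := by
    rw [Category.assoc, hL']
    erw [GrpdLib.pbE_s]
    exact inferInstanceAs (IsImmersion (𝟙 _))
  haveI := IsImmersion.of_comp τ ((hmap G g).fiberToSpecResidueField (hmap G g p))
  have hτ : τ (closedPoint _) = (hmap G g).asFiber p := by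
    refine ((hmap G g).fiberι _).isEmbedding.injective (snd_injective G g ?_)
    rw [Scheme.Hom.fiberι_asFiber, hep]
    have h2 : τ ≫ (hmap G g).fiberι (hmap G g p) ≫ pullback.snd g G.t =
        G.U.fromSpecResidueField (hmap G g p) ≫ G.e := by
      rw [Category.assoc, hL]; exact GrpdLib.pbE_mid G _
    rw [← Scheme.Hom.comp_apply, ← Scheme.Hom.comp_apply, h2, Scheme.Hom.comp_apply,
      Scheme.fromSpecResidueField_apply]
  refine isClosed_singleton_of_isLocallyClosed_singleton ?_
  have hr : Set.range τ = {(hmap G g).asFiber p} := by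
    refine Set.Subset.antisymm ?_ (Set.singleton_subset_iff.2 ⟨_, hτ⟩)
    rintro _ ⟨z, rfl⟩
    rw [Set.mem_singleton_iff, Subsingleton.elim z (closedPoint _), hτ]
  rw [← hr]
  exact τ.isLocallyClosed_range

/-- The stalk of the fibre modulo the ideal of the point has dimension at most that of the stabilizer. -/
theorem ringKrullDim_quot_le (hsp : hmap G g p = v) (J : Ideal ((pullback g G.t).presheaf.stalk p))
    (hJa : (maximalIdeal (U'.presheaf.stalk (pullback.fst g G.t p))).map ((pullback.fst g G.t).stalkMap p).hom ≤ J)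
    (hJh : (maximalIdeal (G.U.presheaf.stalk (hmap G g p))).map ((hmap G g).stalkMap p).hom ≤ J) :
    ringKrullDim ((pullback g G.t).presheaf.stalk p ⧸ J) ≤ topologicalKrullDim ↥(ptGrpd G v).R := by
  let P := pullback g G.t
  let O := P.presheaf.stalk p
  let q : Spec (CommRingCat.of (O ⧸ J)) ⟶ Spec O := Spec.map (CommRingCat.ofHom (Ideal.Quotient.mk J))
  haveI : IsClosedImmersion q := IsClosedImmersion.spec_of_surjective _ Ideal.Quotient.mk_surjective
  let em : Spec (CommRingCat.of (O ⧸ J)) ⟶ G.R := (q ≫ P.fromSpecStalk p) ≫ pullback.snd g G.t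
  have key : ∀ {Z : Scheme.{u}} (f : P ⟶ Z), (maximalIdeal (Z.presheaf.stalk (f p))).map (f.stalkMap p).hom ≤ J →
      ∀ z, f (P.fromSpecStalk p (q z)) = f p := by
    intro Z f hf z
    have h1 : f (P.fromSpecStalk p (q z)) = Z.fromSpecStalk (f p) (Spec.map (f.stalkMap p) (q z)) := by
      rw [← Scheme.Hom.comp_apply, ← Scheme.Hom.comp_apply (Spec.map (f.stalkMap p)),
        Scheme.SpecMap_stalkMap_fromSpecStalk]
    have h2 : Spec.map (f.stalkMap p) (q z) = closedPoint (Z.presheaf.stalk (f p)) := by
      refine PrimeSpectrum.ext (le_antisymm (le_maximalIdeal (Ideal.IsPrime.ne_top inferInstance)) fun a ha => ?_)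
      have h3 : Ideal.Quotient.mk J ((f.stalkMap p).hom a) = 0 :=
        Ideal.Quotient.eq_zero_iff_mem.2 (hf (Ideal.mem_map_of_mem _ ha))
      show Ideal.Quotient.mk J ((f.stalkMap p).hom a) ∈ z.asIdeal
      rw [h3]; exact zero_mem _
    rw [h1, h2, Scheme.fromSpecStalk_closedPoint]
  have hmem : ∀ z, ∃ w : (ptGrpd G v).R, ptMid G v w = em z := fun z => by
    refine exists_ptMid_eq G v _ ?_ ?_
    · show G.t (pullback.snd g G.t (P.fromSpecStalk p (q z))) = v
      rw [t_snd, key _ hJa, hgp]
    · exact (key _ hJh z).trans hsp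
  choose ψ hψ using hmem
  have hem : IsEmbedding em := em.isEmbedding
  have hc : Continuous ψ := (isEmbedding_ptMid G v).continuous_iff.2 (by
    convert em.continuous using 1
    exact funext hψ)
  have hψe : IsEmbedding ψ := IsEmbedding.of_comp hc (ptMid G v).continuous (by
    convert hem using 1
    exact funext hψ)
  exact (PrimeSpectrum.topologicalKrullDim_eq_ringKrullDim _).symm.trans_le hψe.isInducing.topologicalKrullDim_le

end Groth.Agent.GrpdSlice
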