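import Groth.Agent.GrpdSlice.Alg
import Groth.Agent.GrpdSlice.Fibre
import Groth.Agent.Triage.SliceFlatSch
import Groth.Agent.RegImmLib.RegStalk
import Groth.Agent.H23.GysinPb
import Groth.Agent.S1617
import Groth.Agent.AlgSpDec.FibreDimEtale

/-!
# Cutting by one function
-/

set_option autoImplicit false
set_option backward.isDefEq.respectTransparency false
set_option backward.isDefEq.respectTransparency.types false
set_option maxHeartbeats 800000

universe u

open CategoryTheory CategoryTheory.Limits AlgebraicGeometry Topology Grpd IsLocalRing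

namespace Groth.Agent.GrpdSlice

theorem ringKrullDim_fibre_eq {X Y : Scheme.{u}} (f : X ⟶ Y) [LocallyOfFiniteType f] (x : X)
    (hcl : IsClosed ({f.asFiber x} : Set ↥(f.fiber (f x)))) :
    ringKrullDim (↑(X.presheaf.stalk x) ⧸ (maximalIdeal (Y.presheaf.stalk (f x))).map (f.stalkMap x).hom) =
      FlatMor.fibreDimAt f x := by
  obtain ⟨e⟩ := Triage.CMMor.exists_equiv_fibre_stalk f x
  rw [ringKrullDim_eq_of_ringEquiv e]
  letI : (f.fiber (f x)).Over (Spec (CommRingCat.of (Y.residueField (f x) : Type u))) :=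
    ⟨f.fiberToSpecResidueField (f x)⟩
  haveI : LocallyOfFiniteType ((f.fiber (f x)) ↘ Spec (CommRingCat.of (Y.residueField (f x) : Type u))) :=
    MorphismProperty.pullback_snd (P := @LocallyOfFiniteType) _ _ ‹LocallyOfFiniteType f›
  exact (S1617.result (Y.residueField (f x) : Type u) (f.fiber (f x)) (f.asFiber x) hcl).symm

/-- Flatness of the stalk modulo a function regular on the fibre. -/
theorem flat_stalk_quot {X Y : Scheme.{u}} (f : X ⟶ Y) [LocallyOfFinitePresentation f] (x : X)
    (hflat : (f.stalkMap x).hom.Flat) (a : X.presheaf.stalk x) (ha : a ∈ maximalIdeal (X.presheaf.stalk x))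
    (hreg : Ideal.Quotient.mk ((maximalIdeal (Y.presheaf.stalk (f x))).map (f.stalkMap x).hom) a ∈
      nonZeroDivisors (↑(X.presheaf.stalk x) ⧸ (maximalIdeal (Y.presheaf.stalk (f x))).map (f.stalkMap x).hom)) :
    ((Ideal.Quotient.mk (Ideal.span {a})).comp (f.stalkMap x).hom).Flat := by
  obtain ⟨V, hV, U, hU, hx, -, e, hs', hgerm, hfp, -, hfl⟩ :=
    Triage.SliceFlat.exists_slice_sch f x hflat [a] (by simpa using ha) (fun i hi z hz => by
      obtain rfl : i = 0 := by simpa using hi
      simp only [List.take_zero, Ideal.ofList_nil, bot_sup_eq, List.getElem_cons_zero] at hz ⊢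
      rw [← Ideal.Quotient.eq_zero_iff_mem, map_mul] at hz
      rw [← Ideal.Quotient.eq_zero_iff_mem]
      exact (mem_nonZeroDivisors_iff.1 hreg).1 _ hz) ⊤ trivial
  match hs', hgerm with
  | [a'], hgerm =>
    simp only [List.map_cons, List.map_nil, List.cons.injEq, and_true] at hgerm
    subst hgerm
    letI := X.presheaf.algebra_section_stalk ⟨x, hx⟩
    haveI := hU.isLocalization_stalk ⟨x, hx⟩
    letI := Y.presheaf.algebra_section_stalk ⟨f x, e hx⟩
    haveI := hV.isLocalization_stalk ⟨f x, e hx⟩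
    haveI : Module.Flat Γ(X, U) (X.presheaf.stalk x) :=
      IsLocalization.flat _ (hU.primeIdealOf ⟨x, hx⟩).asIdeal.primeCompl
    let Q := X.presheaf.stalk x ⧸ Ideal.span {(X.presheaf.germ U x hx).hom a'}
    have hmap : (Ideal.span {a'}).map (algebraMap Γ(X, U) (X.presheaf.stalk x)) =
        Ideal.span {(X.presheaf.germ U x hx).hom a'} := by
      rw [Ideal.map_span, Set.image_singleton]; rfl
    have h1 : (Ideal.quotientMap _ (algebraMap Γ(X, U) (X.presheaf.stalk x)) (Ideal.le_comap_map (I := Ideal.span {a'}))).Flat := by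
      have := RingHom.flat_algebraMap_iff.2
        (Triage.SliceFlat.flat_quotient_map (T := X.presheaf.stalk x) (Ideal.span {a'}))
      convert this using 1
      ext r
      rfl
    have h0 := hfl 1
    rw [List.take_succ_cons, List.take_nil, Ideal.ofList_singleton] at h0
    have h2 := h0.comp h1
    let E := (Ideal.quotEquivOfEq hmap)
    have h3 := h2.comp (RingHom.Flat.of_bijective (f := E.toRingHom) E.bijective)
    let ψ : Y.presheaf.stalk (f x) →+* Q := (Ideal.Quotient.mk _).comp (f.stalkMap x).hom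
    letI : Algebra (Y.presheaf.stalk (f x)) Q := ψ.toAlgebra
    letI : Algebra Γ(Y, V) Q := (ψ.comp (Y.presheaf.germ V (f x) (e hx)).hom).toAlgebra
    haveI : IsScalarTower Γ(Y, V) (Y.presheaf.stalk (f x)) Q := IsScalarTower.of_algebraMap_eq fun _ => rfl
    show Module.Flat (Y.presheaf.stalk (f x)) Q
    refine (Module.flat_iff_of_isLocalization (Y.presheaf.stalk (f x)) (hV.primeIdealOf ⟨f x, e hx⟩).asIdeal.primeCompl
      Q).2 ?_
    refine RingHom.flat_algebraMap_iff.1 ?_
    convert h3 using 1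
    ext r
    show Ideal.Quotient.mk _ ((Y.presheaf.germ V (f x) (e hx) ≫ f.stalkMap x).hom r) =
      Ideal.Quotient.mk _ ((f.appLE V U e ≫ X.presheaf.germ U x hx).hom r)
    rw [f.germ_stalkMap, Scheme.Hom.appLE, Category.assoc, X.presheaf.germ_res]
  | [], hgerm => simp at hgerm
  | _ :: _ :: _, hgerm => simp at hgerm

/-- Quotients of a quotient along a surjection. -/
theorem exists_quot_map_equiv {R T : Type u} [CommRing R] [CommRing T] (σ : R →+* T) (hσ : Function.Surjective σ)
    (K : Ideal R) : Nonempty ((T ⧸ K.map σ) ≃+* (R ⧸ (K ⊔ RingHom.ker σ))) := by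
  have h : RingHom.ker ((Ideal.Quotient.mk (K.map σ)).comp σ) = K ⊔ RingHom.ker σ := by
    rw [← RingHom.comap_ker, Ideal.mk_ker, Ideal.comap_map_of_surjective _ hσ, ← RingHom.ker_eq_comap_bot]
  exact ⟨((Ideal.quotEquivOfEq h.symm).trans
    (RingHom.quotientKerEquivOfSurjective (Ideal.Quotient.mk_surjective.comp hσ))).symm⟩

variable {S : Scheme.{u}} (G : GroupoidScheme S)

/-- Restricting along a morphism into the objects, as a base change. -/
theorem exists_chartIso {U' U'' : Scheme.{u}} (g : U' ⟶ G.U) (m : U'' ⟶ U') :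
    ∃ e : pullback (pullback.fst g G.t) m ≅ pullback (m ≫ g) G.t,
      e.hom ≫ pullback.snd (m ≫ g) G.t = pullback.fst (pullback.fst g G.t) m ≫ pullback.snd g G.t ∧
      e.hom ≫ pullback.fst (m ≫ g) G.t = pullback.snd (pullback.fst g G.t) m :=
  ⟨pullbackSymmetry _ _ ≪≫ pullbackRightPullbackFstIso g G.t m,
    by simp, by simp⟩

theorem exists_cut [LocallyOfFinitePresentation G.s] (v : G.U)
    (hv : LocallyOfFiniteType (G.U.fromSpecResidueField v)) {U' : Scheme.{u}} [IsAffine U'] (g : U' ⟶ G.U)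
    [IsImmersion g] [LocallyOfFinitePresentation g] (p : ↥(pullback g G.t))
    (hcl : IsClosed ({pullback.fst g G.t p} : Set U')) (hgp : g (pullback.fst g G.t p) = v)
    (hep : pullback.snd g G.t p = G.e v) (hcm : MoreMor.IsCMAt (hmap G g) p)
    (hlt : topologicalKrullDim ↥(ptGrpd G v).R < FlatMor.fibreDimAt (hmap G g) p) :
    ∃ (U'' : Scheme.{u}) (_ : IsAffine U'') (g' : U'' ⟶ G.U) (p' : ↥(pullback g' G.t)),
      IsImmersion g' ∧ LocallyOfFinitePresentation g' ∧ IsClosed ({pullback.fst g' G.t p'} : Set U'') ∧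
      g' (pullback.fst g' G.t p') = v ∧ pullback.snd g' G.t p' = G.e v ∧ MoreMor.IsCMAt (hmap G g') p' ∧
      FlatMor.fibreDimAt (hmap G g') p' + 1 = FlatMor.fibreDimAt (hmap G g) p := by
  let a := pullback.fst g G.t
  let P := pullback g G.t
  haveI : LocallyOfFinitePresentation (pullback.snd g G.t) :=
    MorphismProperty.pullback_snd _ _ ‹LocallyOfFinitePresentation g›
  haveI : LocallyOfFinitePresentation (hmap G g) :=
    inferInstanceAs (LocallyOfFinitePresentation (pullback.snd g G.t ≫ G.s))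
  have hsp : hmap G g p = v := by
    show (pullback.snd g G.t ≫ G.s) p = v
    rw [Scheme.Hom.comp_apply, hep, ← Scheme.Hom.comp_apply, G.e_s]
    rfl
  have hpc := isClosed_asFiber G g p v hgp hep
  obtain ⟨hflat, hCM⟩ := (Triage.CMMor.isCMAt_iff _ p).1 hcm
  have hdim := ringKrullDim_fibre_eq (hmap G g) p hpc
  let K : Ideal (P.presheaf.stalk p) :=
    (maximalIdeal (G.U.presheaf.stalk (hmap G g p))).map ((hmap G g).stalkMap p).hom
  let hT := isAffineOpen_top U'
  let γ : Γ(U', ⊤) →+* P.presheaf.stalk p :=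
    (a.stalkMap p).hom.comp (U'.presheaf.germ ⊤ (a p) trivial).hom
  let M : Ideal Γ(U', ⊤) := (hT.primeIdealOf ⟨a p, trivial⟩).asIdeal
  have hM : M.map γ = (maximalIdeal (U'.presheaf.stalk (a p))).map (a.stalkMap p).hom := by
    letI := U'.presheaf.algebra_section_stalk (U := ⊤) ⟨a p, trivial⟩
    haveI := hT.isLocalization_stalk ⟨a p, trivial⟩
    rw [← IsLocalization.AtPrime.map_eq_maximalIdeal M (U'.presheaf.stalk (a p)), Ideal.map_map]
    rfl
  have hJ : ringKrullDim ((↑(P.presheaf.stalk p) ⧸ K) ⧸ M.map ((Ideal.Quotient.mk K).comp γ)) <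
      ringKrullDim (↑(P.presheaf.stalk p) ⧸ K) := by
    refine lt_of_le_of_lt ?_ (hlt.trans_eq hdim.symm)
    rw [← Ideal.map_map, ringKrullDim_eq_of_ringEquiv (DoubleQuot.quotQuotEquivQuotSup K (M.map γ))]
    exact ringKrullDim_quot_le G g p v hgp hsp _ (hM.ge.trans le_sup_right) le_sup_left
  obtain ⟨f, hfM, hf⟩ := exists_mem_nonZeroDivisors (hR := hCM) _ M hJ
  have hfm : γ f ∈ maximalIdeal (P.presheaf.stalk p) :=
    (Ideal.map_le_iff_le_comap.1 (hM.le.trans (Ideal.map_le_iff_le_comap.2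
      fun r hr => map_nonunit (a.stalkMap p).hom r hr) : M.map γ ≤ maximalIdeal (P.presheaf.stalk p))) hfM
  have hcut := flat_stalk_quot (hmap G g) p hflat (γ f) hfm hf
  haveI : IsLocalHom (Ideal.Quotient.mk K) := by
    haveI : IsLocalRing (↑(P.presheaf.stalk p) ⧸ K) := hCM.toIsLocalRing
    exact IsLocalHom.of_surjective _ Ideal.Quotient.mk_surjective
  have hfK : Ideal.Quotient.mk K (γ f) ∈
      @maximalIdeal (↑(P.presheaf.stalk p) ⧸ K) _ hCM.toIsLocalRing := fun hu =>
    hfm (isUnit_of_map_unit (Ideal.Quotient.mk K) _ hu)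
  obtain ⟨hCM', hdim'⟩ := isCM_quot_span (hR := hCM) _ hfK hf
  let q : Γ(U', ⊤) ⟶ CommRingCat.of (Γ(U', ⊤) ⧸ Ideal.span {f}) :=
    CommRingCat.ofHom (Ideal.Quotient.mk (Ideal.span {f}))
  let m : Spec (CommRingCat.of (Γ(U', ⊤) ⧸ Ideal.span {f})) ⟶ U' := Spec.map q ≫ hT.fromSpec
  haveI : IsIso hT.fromSpec := by rw [IsAffineOpen.fromSpec_top]; infer_instance
  haveI : IsClosedImmersion (Spec.map q) := IsClosedImmersion.spec_of_surjective _ Ideal.Quotient.mk_surjective
  haveI : IsClosedImmersion m := inferInstanceAs (IsClosedImmersion (Spec.map q ≫ hT.fromSpec))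
  haveI : LocallyOfFinitePresentation (Spec.map q) := HasRingHomProperty.Spec_iff.2
    (RingHom.FinitePresentation.of_surjective _ Ideal.Quotient.mk_surjective (by
      show (RingHom.ker (Ideal.Quotient.mk (Ideal.span {f}))).FG
      rw [Ideal.mk_ker]; exact ⟨{f}, by rw [Finset.coe_singleton]⟩))
  haveI : LocallyOfFinitePresentation m :=
    inferInstanceAs (LocallyOfFinitePresentation (Spec.map q ≫ hT.fromSpec))
  have hker : RingHom.ker (m.app ⊤).hom = Ideal.span {f} := by
    have hinv : U'.isoSpec.inv.appTop ≫ (Scheme.ΓSpecIso Γ(U', ⊤)).hom = 𝟙 _ := by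
      rw [← Scheme.toSpecΓ_appTop, ← Scheme.Hom.comp_appTop, ← Scheme.isoSpec_hom, Iso.hom_inv_id,
        Scheme.Hom.id_appTop]
    have h1 : m.app ⊤ ≫ (Scheme.ΓSpecIso _).hom = q := by
      show (Spec.map q ≫ hT.fromSpec).appTop ≫ _ = q
      rw [IsAffineOpen.fromSpec_top, Scheme.Hom.comp_appTop, Category.assoc]
      erw [Scheme.ΓSpecIso_naturality]
      rw [reassoc_of% hinv]
    ext r
    rw [RingHom.mem_ker, ← map_eq_zero_iff _ (ConcreteCategory.bijective_of_isIso
      (Scheme.ΓSpecIso (CommRingCat.of (Γ(U', ⊤) ⧸ Ideal.span {f}))).hom).1]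
    exact (Eq.congr_left (congrArg (fun k => k.hom r) h1)).trans Ideal.Quotient.eq_zero_iff_mem
  obtain ⟨u₁, hu₁⟩ : ∃ u₁, m u₁ = a p := by
    have hle : Ideal.span {f} ≤ M := (Ideal.span_singleton_le_iff_mem _).2 hfM
    have : hT.primeIdealOf ⟨a p, trivial⟩ ∈ Set.range (Spec.map q) := by
      show _ ∈ Set.range (PrimeSpectrum.comap (Ideal.Quotient.mk (Ideal.span {f})))
      rw [range_comap_of_surjective _ _ Ideal.Quotient.mk_surjective, Ideal.mk_ker,
        PrimeSpectrum.mem_zeroLocus]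
      exact hle
    obtain ⟨u₁, hu₁⟩ := this
    refine ⟨u₁, ?_⟩
    show (Spec.map q ≫ hT.fromSpec) u₁ = a p
    rw [Scheme.Hom.comp_apply, hu₁, IsAffineOpen.fromSpec_primeIdealOf]
  obtain ⟨z, hz₁, hz₂⟩ := Scheme.Pullback.exists_preimage_pullback (f := a) (g := m) p u₁ hu₁.symm
  subst hz₁
  let σ := (pullback.fst a m).stalkMap z
  have hσ : Function.Surjective σ.hom := (pullback.fst a m).stalkMap_surjective z
  have hkσ : RingHom.ker σ.hom = Ideal.span {γ f} := by
    rw [H23.GysinPb.ker_stalkMap_fst, RegImmLib.ker_stalkMap_eq_map m hT (pullback.snd a m z) trivial, hker,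
      Ideal.map_map, Ideal.map_span, Set.image_singleton]
    congr 2
    show (H23.GysinPb.baseMap a m z).hom ((U'.presheaf.germ ⊤ _ trivial).hom f) = _
    rw [H23.GysinPb.baseMap]
    simp only [CommRingCat.comp_apply]
    rw [TopCat.Presheaf.germ_stalkSpecializes_apply]
    rfl
  let hW := pullback.fst a m ≫ hmap G g
  have hst : (hW.stalkMap z).hom = σ.hom.comp ((hmap G g).stalkMap (pullback.fst a m z)).hom :=
    congrArg CommRingCat.Hom.hom (Scheme.Hom.stalkMap_comp (pullback.fst a m) (hmap G g) z)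
  have hflatW : (hW.stalkMap z).hom.Flat := by
    rw [hst]
    let E := (Ideal.quotEquivOfEq hkσ.symm).trans (RingHom.quotientKerEquivOfSurjective hσ)
    exact hcut.comp (RingHom.Flat.of_bijective (f := E.toRingHom) E.bijective)
  obtain ⟨E₁⟩ := exists_quot_map_equiv σ.hom hσ K
  let E₂ : (↑((pullback a m).presheaf.stalk z) ⧸ (maximalIdeal (G.U.presheaf.stalk (hW z))).map (hW.stalkMap z).hom) ≃+*
      ((↑(P.presheaf.stalk (pullback.fst a m z)) ⧸ K) ⧸ Ideal.span {Ideal.Quotient.mk K (γ f)}) :=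
    ((Ideal.quotEquivOfEq (by rw [hst]; exact (Ideal.map_map _ _).symm)).trans E₁).trans
      ((Ideal.quotEquivOfEq (by rw [hkσ])).trans
      ((DoubleQuot.quotQuotEquivQuotSup K (Ideal.span {γ f})).symm.trans
        (Ideal.quotEquivOfEq (by rw [Ideal.map_span, Set.image_singleton]))))
  have hcmW : MoreMor.IsCMAt hW z :=
    (Triage.CMMor.isCMAt_iff _ z).2 ⟨hflatW, Triage.CMMor.isCM_of_equiv E₂.symm hCM'⟩
  haveI : LocallyOfFiniteType (pullback.fst a m) := inferInstance
  haveI : LocallyOfFiniteType hW := inferInstanceAs (LocallyOfFiniteType (pullback.fst a m ≫ hmap G g))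
  have hzc : IsClosed ({hW.asFiber z} : Set ↥(hW.fiber (hW z))) := by
    let μ : hW.fiber (hW z) ⟶ (hmap G g).fiber (hmap G g (pullback.fst a m z)) :=
      pullback.lift (hW.fiberι _ ≫ pullback.fst a m) (hW.fiberToSpecResidueField _)
        (by rw [Category.assoc]; exact pullback.condition)
    have hμ : μ ≫ (hmap G g).fiberι _ = hW.fiberι _ ≫ pullback.fst a m := pullback.lift_fst _ _ _
    have : ({hW.asFiber z} : Set ↥(hW.fiber (hW z))) = μ ⁻¹' {(hmap G g).asFiber (pullback.fst a m z)} := by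
      ext w
      simp only [Set.mem_singleton_iff, Set.mem_preimage]
      constructor
      · rintro rfl
        refine ((hmap G g).fiberι _).isEmbedding.injective ?_
        rw [← Scheme.Hom.comp_apply, hμ, Scheme.Hom.comp_apply, Scheme.Hom.fiberι_asFiber,
          Scheme.Hom.fiberι_asFiber]
      · intro h
        refine (hW.fiberι _).isEmbedding.injective ((pullback.fst a m).isEmbedding.injective ?_)
        rw [← Scheme.Hom.comp_apply (hW.fiberι (hW z)), ← hμ, Scheme.Hom.comp_apply, h,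
          Scheme.Hom.fiberι_asFiber, Scheme.Hom.fiberι_asFiber]
    rw [this]
    exact hpc.preimage μ.continuous
  have hdimW : FlatMor.fibreDimAt hW z + 1 = FlatMor.fibreDimAt (hmap G g) (pullback.fst a m z) := by
    rw [← ringKrullDim_fibre_eq hW z hzc, ringKrullDim_eq_of_ringEquiv E₂, hdim']
    exact hdim
  obtain ⟨e, he₁, he₂⟩ := exists_chartIso G g m
  have heh : e.hom ≫ hmap G (m ≫ g) = hW := by
    show e.hom ≫ pullback.snd (m ≫ g) G.t ≫ G.s = pullback.fst a m ≫ pullback.snd g G.t ≫ G.s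
    rw [reassoc_of% he₁]
  haveI : LocallyOfFiniteType (pullback.snd (m ≫ g) G.t) := MorphismProperty.pullback_snd _ _ inferInstance
  haveI : LocallyOfFiniteType (hmap G (m ≫ g)) :=
    inferInstanceAs (LocallyOfFiniteType (pullback.snd (m ≫ g) G.t ≫ G.s))
  have hfst : pullback.fst (m ≫ g) G.t (e.hom z) = u₁ := by
    rw [← Scheme.Hom.comp_apply, he₂, hz₂]
  refine ⟨_, inferInstance, m ≫ g, e.hom z, inferInstance, inferInstance, ?_, ?_, ?_, ?_, ?_⟩
  · have : ({pullback.fst (m ≫ g) G.t (e.hom z)} : Set _) = m ⁻¹' {a (pullback.fst a m z)} := by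
      ext w
      simp only [Set.mem_singleton_iff, Set.mem_preimage, hfst]
      exact ⟨fun h => h ▸ hu₁, fun h => m.isEmbedding.injective (h.trans hu₁.symm)⟩
    rw [this]
    exact hcl.preimage m.continuous
  · rw [Scheme.Hom.comp_apply, hfst, hu₁]
    exact hgp
  · rw [← Scheme.Hom.comp_apply, he₁, Scheme.Hom.comp_apply]
    exact hep
  · rw [← CMOpen5.isCMAt_openImmersion_comp e.hom (hmap G (m ≫ g)) z, heh]
    exact hcmW
  · rw [← AlgSpDec.fibreDimAt_etale_comp e.hom (hmap G (m ≫ g)) z, heh]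
    exact hdimW

end Groth.Agent.GrpdSlice
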