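import Groth.Agent.GrpdSlice.Saturated

/-!
# Slices of groupoids through points of finite type
-/

set_option autoImplicit false
set_option backward.isDefEq.respectTransparency false
set_option backward.isDefEq.respectTransparency.types false
set_option maxHeartbeats 800000

universe u

open CategoryTheory CategoryTheory.Limits AlgebraicGeometry Topology Grpd IsLocalRing

namespace Groth.Agent.GrpdSlice

variable {S : Scheme.{u}} (G : GroupoidScheme S) (v : G.U)

/-- A slice through `v`: an affine scheme immersed in the objects, with a chosen arrow over the identity. -/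
structure Slice : Type (u + 1) where
  /-- the slice -/
  V : Scheme.{u}
  isAffine : IsAffine V
  /-- its immersion -/
  g : V ⟶ G.U
  isImmersion : IsImmersion g
  lfp : LocallyOfFinitePresentation g
  /-- the point over the identity at `v` -/
  p : ↥(pullback g G.t)
  isClosed : IsClosed ({pullback.fst g G.t p} : Set V)
  over_v : g (pullback.fst g G.t p) = v
  snd_p : pullback.snd g G.t p = G.e v
  cm : MoreMor.IsCMAt (hmap G g) p

variable [LocallyOfFinitePresentation G.s]

theorem exists_slice_open (hs : ∀ r : G.R, MoreMor.IsCMAt G.s r)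
    (hv : LocallyOfFiniteType (G.U.fromSpecResidueField v)) :
    ∃ C : Slice G v, FlatMor.fibreDimAt (hmap G C.g) C.p = FlatMor.fibreDimAt G.s (G.e v) := by
  obtain ⟨W, hW, hvW, hcl⟩ := FtPts6.isLocallyClosed_singleton_iff.1
    (FtPts6.isLocallyClosed_singleton_of_locallyOfFiniteType hv)
  obtain ⟨p, hp₁, hp₂⟩ := Scheme.Pullback.exists_preimage_pullback (f := W.ι) (g := G.t) ⟨v, hvW⟩ (G.e v)
    (by rw [← Scheme.Hom.comp_apply, G.e_t]; rfl)
  refine ⟨⟨_, hW, W.ι, inferInstance, inferInstance, p, by rw [hp₁]; exact hcl, by rw [hp₁]; rfl, hp₂, ?_⟩, ?_⟩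
  · exact (CMOpen5.isCMAt_openImmersion_comp (pullback.snd W.ι G.t) G.s p).2 (hs _)
  · show FlatMor.fibreDimAt (pullback.snd W.ι G.t ≫ G.s) p = _
    rw [AlgSpDec.fibreDimAt_etale_comp, hp₂]

theorem hmap_p (C : Slice G v) : hmap G C.g C.p = v := by
  show (pullback.snd C.g G.t ≫ G.s) C.p = v
  rw [Scheme.Hom.comp_apply, C.snd_p, ← Scheme.Hom.comp_apply, G.e_s]
  rfl

theorem exists_nat_fibreDimAt (C : Slice G v) : ∃ n : ℕ, FlatMor.fibreDimAt (hmap G C.g) C.p = n := by
  haveI := C.isImmersion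
  haveI := C.lfp
  haveI : LocallyOfFiniteType (pullback.snd C.g G.t) := MorphismProperty.pullback_snd _ _ inferInstance
  haveI : LocallyOfFiniteType (hmap G C.g) := inferInstanceAs (LocallyOfFiniteType (pullback.snd C.g G.t ≫ G.s))
  obtain ⟨z, -, -, hz, -⟩ := FibDim.exists_fibreDimAt_eq (hmap G C.g) C.p
  exact ⟨_, hz⟩

theorem exists_slice_step (hv : LocallyOfFiniteType (G.U.fromSpecResidueField v)) (C : Slice G v)
    (hlt : topologicalKrullDim ↥(G.stabilizerToU.fiber v) < FlatMor.fibreDimAt (hmap G C.g) C.p) :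
    ∃ C' : Slice G v, FlatMor.fibreDimAt (hmap G C'.g) C'.p + 1 = FlatMor.fibreDimAt (hmap G C.g) C.p := by
  haveI := C.isImmersion
  haveI := C.lfp
  haveI := C.isAffine
  rw [← topologicalKrullDim_ptGrpd G v hv] at hlt
  obtain ⟨V, hV, g, p, h1, h2, h3, h4, h5, h6, h7⟩ :=
    exists_cut G v hv C.g C.p C.isClosed C.over_v C.snd_p C.cm hlt
  exact ⟨⟨V, hV, g, h1, h2, p, h3, h4, h5, h6⟩, h7⟩

theorem exists_slice_min (hs : ∀ r : G.R, MoreMor.IsCMAt G.s r)
    (hv : LocallyOfFiniteType (G.U.fromSpecResidueField v)) :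
    ∃ C : Slice G v, FlatMor.fibreDimAt (hmap G C.g) C.p = topologicalKrullDim ↥(G.stabilizerToU.fiber v) := by
  suffices h : ∀ n : ℕ, ∀ C : Slice G v, FlatMor.fibreDimAt (hmap G C.g) C.p = n →
      ∃ C : Slice G v, FlatMor.fibreDimAt (hmap G C.g) C.p = topologicalKrullDim ↥(G.stabilizerToU.fiber v) by
    obtain ⟨C, -⟩ := exists_slice_open G v hs hv
    obtain ⟨n, hn⟩ := exists_nat_fibreDimAt G v C
    exact h n C hn
  intro n
  induction n using Nat.strong_induction_on with
  | _ n ih =>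
    intro C hn
    by_cases hlt : topologicalKrullDim ↥(G.stabilizerToU.fiber v) < FlatMor.fibreDimAt (hmap G C.g) C.p
    · obtain ⟨C', hC'⟩ := exists_slice_step G v hv C hlt
      obtain ⟨k, hk⟩ := exists_nat_fibreDimAt G v C'
      rw [hn, hk] at hC'
      have : k + 1 = n := by exact_mod_cast hC'
      exact ih k (by omega) C' hk
    · refine ⟨C, le_antisymm (not_lt.1 hlt) ?_⟩
      haveI := C.isImmersion
      rw [← topologicalKrullDim_ptGrpd G v hv]
      exact fibreDimAt_ge G C.g C.p v C.over_v hv (hmap_p G v C)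

/-- Shrinking a slice into a saturated open set of arrows. -/
theorem exists_shrink [LocallyOfFinitePresentation G.t] [Flat G.t] (C : Slice G v)
    (O : Set ↥(pullback C.g G.t)) (hO : IsOpen O) (hp : C.p ∈ O)
    (hsat : ∀ q₁ q₂, pullback.fst C.g G.t q₁ = pullback.fst C.g G.t q₂ → q₁ ∈ O → q₂ ∈ O) :
    ∃ (V : Scheme.{u}) (_ : IsAffine V) (g : V ⟶ G.U) (p : ↥(pullback g G.t))
      (φ : pullback g G.t ⟶ pullback C.g G.t), IsImmersion g ∧ LocallyOfFinitePresentation g ∧
      g (pullback.fst g G.t p) = v ∧ pullback.snd g G.t p = G.e v ∧ IsOpenImmersion φ ∧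
      φ p = C.p ∧ φ ≫ hmap G C.g = hmap G g ∧ ∀ q, φ q ∈ O := by
  haveI := C.isImmersion
  haveI := C.lfp
  let a := pullback.fst C.g G.t
  haveI : LocallyOfFinitePresentation a := MorphismProperty.pullback_fst _ _ ‹LocallyOfFinitePresentation G.t›
  haveI : Flat a := MorphismProperty.pullback_fst _ _ ‹Flat G.t›
  obtain ⟨W, hW, hpW, hWO⟩ := exists_isAffineOpen_mem_and_subset
    (U := (⟨a '' O, a.isOpenMap O hO⟩ : C.V.Opens)) (x := a C.p) ⟨C.p, hp, rfl⟩
  obtain ⟨e, he₁, he₂⟩ := exists_chartIso G C.g W.ι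
  obtain ⟨z, hz₁, hz₂⟩ := Scheme.Pullback.exists_preimage_pullback (f := a) (g := W.ι) C.p ⟨a C.p, hpW⟩ rfl
  refine ⟨_, hW, W.ι ≫ C.g, e.hom z, e.inv ≫ pullback.fst a W.ι, inferInstance, inferInstance, ?_, ?_,
    inferInstance, ?_, ?_, ?_⟩
  · rw [← Scheme.Hom.comp_apply e.hom, he₂, hz₂, Scheme.Hom.comp_apply]
    exact C.over_v
  · rw [← Scheme.Hom.comp_apply, he₁, Scheme.Hom.comp_apply, hz₁, C.snd_p]
  · rw [← Scheme.Hom.comp_apply, Iso.hom_inv_id_assoc, hz₁]
  · show (e.inv ≫ pullback.fst a W.ι) ≫ pullback.snd C.g G.t ≫ G.s = pullback.snd (W.ι ≫ C.g) G.t ≫ G.s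
    rw [Category.assoc, ← reassoc_of% he₁, Iso.inv_hom_id_assoc]
  · intro q
    have hW' : a ((e.inv ≫ pullback.fst a W.ι) q) ∈ W := by
      rw [← Scheme.Hom.comp_apply, Category.assoc, pullback.condition, ← Category.assoc, Scheme.Hom.comp_apply]
      exact ((e.inv ≫ pullback.snd a W.ι) q).2
    obtain ⟨q₁, hq₁, hq₁'⟩ := hWO hW'
    exact hsat q₁ _ hq₁' hq₁

theorem flat_of_isCMAt {X Y : Scheme.{u}} (f : X ⟶ Y) (h : ∀ x, MoreMor.IsCMAt f x) : Flat f :=
  Flat.of_stalkMap _ fun x => (h x).1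

theorem isCMAt_restrict [LocallyOfFiniteType G.t] {V : Scheme.{u}} (g : V ⟶ G.U) [LocallyOfFiniteType g]
    (h : ∀ q, MoreMor.IsCMAt (hmap G g) q) :
    (∀ q, MoreMor.IsCMAt (pullback.snd (hmap G g) g) q) ∧
      ∀ q, MoreMor.IsCMAt (pullback.fst (hmap G g) g ≫ pullback.fst g G.t) q := by
  haveI : LocallyOfFiniteType (pullback.snd g G.t) := MorphismProperty.pullback_snd _ _ ‹LocallyOfFiniteType g›
  haveI : LocallyOfFiniteType (hmap G g) := inferInstanceAs (LocallyOfFiniteType (pullback.snd g G.t ≫ G.s))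
  have h1 : ∀ q, MoreMor.IsCMAt (pullback.snd (hmap G g) g) q := fun q =>
    S1345.result (hmap G g) (fun y => DimFormula.isLocallyNoetherian_fiber (hmap G g) y) _ _ g
      (IsPullback.of_hasPullback (hmap G g) g) q (h _)
  refine ⟨h1, fun q => ?_⟩
  rw [← resInv_snd, CMOpen5.isCMAt_openImmersion_comp]
  exact h1 _

theorem lfp_restrict {V : Scheme.{u}} (g : V ⟶ G.U) [LocallyOfFinitePresentation g] :
    LocallyOfFinitePresentation (hmap G g) ∧ LocallyOfFinitePresentation (pullback.snd (hmap G g) g) ∧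
      LocallyOfFinitePresentation (pullback.fst (hmap G g) g ≫ pullback.fst g G.t) := by
  haveI : LocallyOfFinitePresentation (pullback.snd g G.t) :=
    MorphismProperty.pullback_snd _ _ ‹LocallyOfFinitePresentation g›
  haveI h1 : LocallyOfFinitePresentation (hmap G g) :=
    inferInstanceAs (LocallyOfFinitePresentation (pullback.snd g G.t ≫ G.s))
  haveI h2 : LocallyOfFinitePresentation (pullback.snd (hmap G g) g) := MorphismProperty.pullback_snd _ _ h1
  refine ⟨h1, h2, ?_⟩
  rw [← resInv_snd]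
  infer_instance

theorem lqf_restrict {V : Scheme.{u}} (g : V ⟶ G.U) [h : LocallyQuasiFinite (hmap G g)] :
    LocallyQuasiFinite (pullback.snd (hmap G g) g) ∧
      LocallyQuasiFinite (pullback.fst (hmap G g) g ≫ pullback.fst g G.t) := by
  haveI h2 : LocallyQuasiFinite (pullback.snd (hmap G g) g) := MorphismProperty.pullback_snd _ _ h
  refine ⟨h2, ?_⟩
  rw [← resInv_snd]
  infer_instance

end Groth.Agent.GrpdSlice
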