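import Groth.Agent.GrpdSlice.Cut
import Groth.Agent.GrpdLib.FibreIso
import Groth.Agent.GrpdLib.DegDecomp
import Groth.Agent.GrpdOmega.Shear
import Groth.Agent.S1345
import Groth.Agent.S1347
import Groth.Agent.S0402
import Groth.Agent.AlgSpDec.PointLocusInst
import Groth.Agent.DimFormula.Fibre

/-!
# Loci of the restricted source map are saturated
-/

set_option autoImplicit false
set_option backward.isDefEq.respectTransparency false
set_option backward.isDefEq.respectTransparency.types false
set_option maxHeartbeats 800000

universe u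

open CategoryTheory CategoryTheory.Limits AlgebraicGeometry Topology Grpd IsLocalRing

namespace Groth.Agent.GrpdSlice

theorem isCMAt_grpd_iff {X Y : Scheme.{u}} (f : X ⟶ Y) (x : X) : Grpd.IsCMAt f x ↔ MoreMor.IsCMAt f x :=
  (Triage.CMMor.isCMAt_iff f x).symm

variable {S : Scheme.{u}} (G : GroupoidScheme S) {U' : Scheme.{u}} (g : U' ⟶ G.U)

/-- The composite of an arrow with target in `U'` and a further arrow. -/
noncomputable def midMap : pullback (hmap G g) G.t ⟶ G.R :=
  pullback.lift (pullback.fst (hmap G g) G.t ≫ pullback.snd g G.t) (pullback.snd (hmap G g) G.t)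
    (by rw [Category.assoc]; exact pullback.condition) ≫ G.c

/-- `((u', r₁), r₂) ↦ (u', r₁ ∘ r₂)`. -/
noncomputable def moveMap : pullback (hmap G g) G.t ⟶ pullback g G.t :=
  pullback.lift (pullback.fst (hmap G g) G.t ≫ pullback.fst g G.t) (midMap G g)
    (by rw [midMap, G.comp_t, Category.assoc, Category.assoc, pullback.condition])

theorem moveMap_h : moveMap G g ≫ hmap G g = pullback.snd (hmap G g) G.t ≫ G.s := by
  rw [moveMap, pullback.lift_snd_assoc, midMap, G.comp_s]

/-- Forgetting the middle arrow identifies composable pairs with pairs of the same source. -/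
noncomputable def moveIso : pullback (hmap G g) G.t ≅ pullback (hmap G g) G.s where
  hom := pullback.lift (moveMap G g) (pullback.snd (hmap G g) G.t) (moveMap_h G g)
  inv := pullback.lift
    (pullback.lift (pullback.fst (hmap G g) G.s ≫ pullback.fst g G.t)
      (pullback.lift (pullback.fst (hmap G g) G.s ≫ pullback.snd g G.t) (pullback.snd (hmap G g) G.s ≫ G.i)
        (by rw [Category.assoc, Category.assoc, G.i_t]; exact pullback.condition) ≫ G.c)
      (by rw [G.comp_t, Category.assoc, Category.assoc, pullback.condition]))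
    (pullback.snd (hmap G g) G.s)
    (by rw [pullback.lift_snd_assoc, G.comp_s, Category.assoc, G.i_s])
  hom_inv_id := by
    apply pullback.hom_ext
    · rw [Category.assoc, pullback.lift_fst, Category.id_comp]
      apply pullback.hom_ext
      · rw [Category.assoc, pullback.lift_fst, pullback.lift_fst_assoc, moveMap, pullback.lift_fst]
      · rw [Category.assoc, pullback.lift_snd]
        rw [← Category.assoc]
        refine Eq.trans ?_ (GrpdLib.comp_inv_cancel' G
          (pullback.fst (hmap G g) G.t ≫ pullback.snd g G.t) (pullback.snd (hmap G g) G.t)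
          (by rw [Category.assoc]; exact pullback.condition))
        refine congrArg (· ≫ G.c) ?_
        apply pullback.hom_ext
        · rw [Category.assoc, pullback.lift_fst, pullback.lift_fst_assoc, moveMap, pullback.lift_snd,
            pullback.lift_fst]
          rfl
        · rw [Category.assoc, pullback.lift_snd, pullback.lift_snd_assoc, pullback.lift_snd]
    · rw [Category.assoc, pullback.lift_snd, pullback.lift_snd, Category.id_comp]
  inv_hom_id := by
    apply pullback.hom_ext
    · rw [Category.assoc, pullback.lift_fst, Category.id_comp]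
      apply pullback.hom_ext
      · rw [Category.assoc, moveMap, pullback.lift_fst, pullback.lift_fst_assoc, pullback.lift_fst]
      · rw [Category.assoc, moveMap, pullback.lift_snd, midMap, ← Category.assoc]
        refine Eq.trans ?_ (GrpdLib.comp_inv_cancel G
          (pullback.fst (hmap G g) G.s ≫ pullback.snd g G.t) (pullback.snd (hmap G g) G.s)
          (by rw [Category.assoc]; exact pullback.condition))
        refine congrArg (· ≫ G.c) ?_
        apply pullback.hom_ext
        · rw [Category.assoc, pullback.lift_fst, pullback.lift_fst_assoc, pullback.lift_snd, pullback.lift_fst]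
        · rw [Category.assoc, pullback.lift_snd, pullback.lift_snd, pullback.lift_snd]
    · rw [Category.assoc, pullback.lift_snd, pullback.lift_snd, Category.id_comp]

theorem isPullback_moveMap :
    IsPullback (moveMap G g) (pullback.snd (hmap G g) G.t) (hmap G g) G.s := by
  refine (IsPullback.of_hasPullback (hmap G g) G.s).of_iso (moveIso G g).symm (Iso.refl _) (Iso.refl _) (Iso.refl _)
    ?_ ?_ (by simp) (by simp)
  · rw [Iso.refl_hom, Category.comp_id, Iso.symm_hom, ← cancel_epi (moveIso G g).hom, Iso.hom_inv_id_assoc]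
    exact pullback.lift_fst _ _ _
  · rw [Iso.refl_hom, Category.comp_id, Iso.symm_hom, ← cancel_epi (moveIso G g).hom, Iso.hom_inv_id_assoc]
    exact pullback.lift_snd _ _ _

theorem exists_move (q₁ q₂ : ↥(pullback g G.t)) (h : pullback.fst g G.t q₁ = pullback.fst g G.t q₂) :
    ∃ z, pullback.fst (hmap G g) G.t z = q₁ ∧ moveMap G g z = q₂ := by
  let a := pullback.fst g G.t
  let b := pullback.snd g G.t
  obtain ⟨w, hw₁, hw₂⟩ := Scheme.Pullback.exists_preimage_pullback (f := a) (g := a) q₁ q₂ h
  let β₁ := pullback.fst a a ≫ b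
  let β₂ := pullback.snd a a ≫ b
  have hβ : β₂ ≫ G.t = β₁ ≫ G.t := by
    simp only [β₁, β₂, b, Category.assoc, ← pullback.condition (f := g) (g := G.t)]
    rw [← Category.assoc, ← Category.assoc, pullback.condition (f := a) (g := a)]
  have hδ : (β₁ ≫ G.i) ≫ G.s = β₂ ≫ G.t := by rw [Category.assoc, G.i_s, hβ]
  let δ := pullback.lift (β₁ ≫ G.i) β₂ hδ ≫ G.c
  let Φ : pullback a a ⟶ pullback (hmap G g) G.t := pullback.lift (pullback.fst a a) δ
    (by rw [G.comp_t]; simp only [β₁, b, hmap, Category.assoc, G.i_t])
  refine ⟨Φ w, by rw [← Scheme.Hom.comp_apply, pullback.lift_fst, hw₁], ?_⟩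
  have : Φ ≫ moveMap G g = pullback.snd a a := by
    apply pullback.hom_ext
    · rw [Category.assoc, moveMap, pullback.lift_fst, pullback.lift_fst_assoc]
      exact pullback.condition
    · rw [Category.assoc, moveMap, pullback.lift_snd, midMap, ← Category.assoc]
      refine Eq.trans ?_ (GrpdOmega.comp_inv_left' G β₁ β₂ hβ (by
        rw [GrpdOmega.comp, G.comp_t]; simp only [β₁, Category.assoc, G.i_t]))
      refine congrArg (· ≫ G.c) ?_
      apply pullback.hom_ext
      · rw [Category.assoc, pullback.lift_fst, pullback.lift_fst_assoc, pullback.lift_fst]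
      · rw [Category.assoc, pullback.lift_snd, pullback.lift_snd, pullback.lift_snd]
        rfl
  rw [← Scheme.Hom.comp_apply, this, hw₂]

variable [LocallyOfFiniteType G.t] [LocallyOfFiniteType g]

theorem isCMAt_of_fst_eq [LocallyOfFiniteType G.s] [Flat G.s] (q₁ q₂ : ↥(pullback g G.t))
    (h : pullback.fst g G.t q₁ = pullback.fst g G.t q₂) (h₁ : MoreMor.IsCMAt (hmap G g) q₁) :
    MoreMor.IsCMAt (hmap G g) q₂ := by
  haveI : LocallyOfFiniteType (pullback.snd g G.t) := MorphismProperty.pullback_snd _ _ ‹LocallyOfFiniteType g›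
  haveI : LocallyOfFiniteType (hmap G g) := inferInstanceAs (LocallyOfFiniteType (pullback.snd g G.t ≫ G.s))
  obtain ⟨z, rfl, rfl⟩ := exists_move G g q₁ q₂ h
  have hN := fun y => DimFormula.isLocallyNoetherian_fiber (hmap G g) y
  have h₂ := S1345.result (hmap G g) hN _ _ G.t (IsPullback.of_hasPullback (hmap G g) G.t) z h₁
  exact S1347.result (hmap G g) hN _ _ G.s (isPullback_moveMap G g) z (Flat.stalkMap _ _) h₂

theorem fibreDimAt_of_fst_eq [LocallyOfFiniteType G.s] (q₁ q₂ : ↥(pullback g G.t))
    (h : pullback.fst g G.t q₁ = pullback.fst g G.t q₂) :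
    FlatMor.fibreDimAt (hmap G g) q₁ = FlatMor.fibreDimAt (hmap G g) q₂ := by
  haveI : LocallyOfFiniteType (pullback.snd g G.t) := MorphismProperty.pullback_snd _ _ ‹LocallyOfFiniteType g›
  haveI : LocallyOfFiniteType (hmap G g) := inferInstanceAs (LocallyOfFiniteType (pullback.snd g G.t ≫ G.s))
  haveI : LocallyOfFiniteType (pullback.snd (hmap G g) G.t) := MorphismProperty.pullback_snd _ _ ‹_›
  obtain ⟨z, rfl, rfl⟩ := exists_move G g q₁ q₂ h
  rw [← FibDim.fibreDimAt_baseChange (IsPullback.of_hasPullback (hmap G g) G.t) z,
    ← FibDim.fibreDimAt_baseChange (isPullback_moveMap G g) z]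

/-- The inverse of the restricted groupoid. -/
noncomputable def resInv : pullback (hmap G g) g ⟶ pullback (hmap G g) g :=
  pullback.lift
    (pullback.lift (pullback.snd (hmap G g) g)
      (pullback.fst (hmap G g) g ≫ pullback.snd g G.t ≫ G.i)
      (by rw [Category.assoc, Category.assoc, G.i_t]; exact pullback.condition.symm))
    (pullback.fst (hmap G g) g ≫ pullback.fst g G.t)
    (by
      rw [pullback.lift_snd_assoc, Category.assoc, Category.assoc, G.i_s, Category.assoc, pullback.condition])

omit [LocallyOfFiniteType G.t] [LocallyOfFiniteType g] in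
theorem resInv_snd : resInv G g ≫ pullback.snd (hmap G g) g = pullback.fst (hmap G g) g ≫ pullback.fst g G.t :=
  pullback.lift_snd _ _ _

omit [LocallyOfFiniteType G.t] [LocallyOfFiniteType g] in
theorem resInv_resInv : resInv G g ≫ resInv G g = 𝟙 _ := by
  apply pullback.hom_ext
  · apply pullback.hom_ext
    · simp [resInv]
    · simp [resInv, GrpdLib.i_i]
  · simp [resInv]

instance : IsIso (resInv G g) := ⟨resInv G g, resInv_resInv G g, resInv_resInv G g⟩

end Groth.Agent.GrpdSlice
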